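import Groth.Agent.L22.CotSmooth.Scheme
import Groth.Agent.L05.SmoothCrit.LocalModelScheme
import Groth.Prelude.Def_FixPt

/-!
Smoothness of morphisms of smooth schemes over an algebraically closed field via cotangent maps.
-/

set_option autoImplicit false
set_option linter.style.haveILetI false
universe u

open CategoryTheory CategoryTheory.Limits AlgebraicGeometry

namespace Groth.L22.CotSmooth

theorem mem_smoothLocus_iff_injective (k : Type u) [Field k] [IsAlgClosed k] {X Y : Scheme.{u}}
    (qX : X ⟶ Spec (CommRingCat.of k)) (qY : Y ⟶ Spec (CommRingCat.of k)) [Smooth qX] [Smooth qY]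
    [LocallyOfFiniteType qX] [LocallyOfFiniteType qY] (f : X ⟶ Y) [LocallyOfFinitePresentation f]
    (hf : f ≫ qY = qX) : ∀ x : X, IsClosed ({x} : Set X) →
      (x ∈ f.smoothLocus ↔ Function.Injective (FixPt.cotangentMapAt f x (f.base x) rfl)) := by
  letI : X.Over (Spec (CommRingCat.of k)) := ⟨qX⟩
  letI : Y.Over (Spec (CommRingCat.of k)) := ⟨qY⟩
  haveI : LocallyOfFiniteType (X ↘ Spec (CommRingCat.of k)) := inferInstanceAs (LocallyOfFiniteType qX)
  have key : ∀ x : X, IsClosed ({x} : Set X) →
      (x ∈ f.smoothLocus ↔ Function.Injective (FixPt.cotangentMapAt f x (f.base x) rfl)) := by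
    intro x hx
    rw [Scheme.Hom.mem_smoothLocus]
    let O := X.presheaf.stalk x
    let B := Y.presheaf.stalk (f x)
    letI aO : Algebra k O := (Groth.L07.SyntOverField.toStalk qX x).hom.toAlgebra
    letI aB : Algebra k B := (Groth.L07.SyntOverField.toStalk qY (f x)).hom.toAlgebra
    letI aBO : Algebra B O := (f.stalkMap x).hom.toAlgebra
    haveI : Algebra.EssFiniteType k O := Groth.L07.SyntOverField.essFiniteType_stalk qX x
    haveI : Algebra.EssFiniteType k B := Groth.L07.SyntOverField.essFiniteType_stalk qY (f x)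
    haveI : Algebra.FormallySmooth k O := Groth.L22.CotSmooth.formallySmooth_toStalk qX x
    haveI : IsLocalHom (algebraMap B O) := inferInstanceAs (IsLocalHom (f.stalkMap x).hom)
    have hsX : (Groth.L07.SyntOverField.toStalk qX x).hom = Curv2.stalkMap k X x := by
      rw [Groth.L07.SyntOverField.toStalk_eq qX x ⊤ trivial]
      simp only [Scheme.Hom.appLE, Category.assoc, TopCat.Presheaf.germ_res]
      rfl
    have hsY : (Groth.L07.SyntOverField.toStalk qY (f x)).hom = Curv2.stalkMap k Y (f x) := by
      rw [Groth.L07.SyntOverField.toStalk_eq qY (f x) ⊤ trivial]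
      simp only [Scheme.Hom.appLE, Category.assoc, TopCat.Presheaf.germ_res]
      rfl
    haveI : IsScalarTower k B O := IsScalarTower.of_algebraMap_eq' <| by
      show (Groth.L07.SyntOverField.toStalk qX x).hom =
        (f.stalkMap x).hom.comp (Groth.L07.SyntOverField.toStalk qY (f x)).hom
      rw [hsX, hsY]
      have h1 : CommRingCat.ofHom (Curv2.stalkMap k Y (f x)) ≫ f.stalkMap x =
          CommRingCat.ofHom (Curv2.stalkMap k X x) := by
        apply Spec.map_injective
        rw [Spec.map_comp, Groth.L07.FieldStalk.SpecMap_stalkMap, Groth.L07.FieldStalk.SpecMap_stalkMap,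
          Scheme.SpecMap_stalkMap_fromSpecStalk_assoc]
        show _ ≫ f ≫ qY = _ ≫ qX
        rw [hf]
      exact (congrArg CommRingCat.Hom.hom h1).symm
    have hO : Function.Bijective (algebraMap k (IsLocalRing.ResidueField O)) := by
      have h : Function.Bijective (Curv2.resMap k X x) := by
        letI := Curv2.resAlgebra k X x
        haveI := Groth.L21.Disc.finite_residueField_of_isClosed k hx
        exact IsAlgClosed.algebraMap_bijective_of_isIntegral (k := k) (K := X.residueField x)
      have e : algebraMap k (IsLocalRing.ResidueField O) = Curv2.resMap k X x :=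
        congrArg (fun φ => (IsLocalRing.residue O).comp φ) hsX
      rw [e]; exact h
    have hB : Function.Bijective (algebraMap k (IsLocalRing.ResidueField B)) := by
      refine ⟨(algebraMap k (IsLocalRing.ResidueField B)).injective, fun z => ?_⟩
      obtain ⟨t, ht⟩ := hO.2 (IsLocalRing.ResidueField.map (algebraMap B O) z)
      refine ⟨t, (IsLocalRing.ResidueField.map (algebraMap B O)).injective ?_⟩
      rw [← ht]
      show IsLocalRing.residue O (algebraMap B O (algebraMap k B t)) = IsLocalRing.residue O (algebraMap k O t)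
      rw [← IsScalarTower.algebraMap_apply k B O]
    have hid : FixPt.stalkMapAt f x (f x) rfl = (f.stalkMap x).hom := by
      simp [FixPt.stalkMapAt, TopCat.Presheaf.stalkCongr]
    refine Groth.L22.CotSmooth.formallySmooth_iff (k := k) (B := B) (O := O) hB hO _ fun b hb hb' => ?_
    rw [FixPt.cotangentMapAt, Ideal.mapCotangent_toCotangent]
    congr 1
    exact Subtype.ext (RingHom.congr_fun hid b)
  exact key

/-- A smooth morphism cannot go to a higher dimensional smooth variety. -/
theorem dim_le_of_smooth {k : Type u} [Field k] [IsAlgClosed k] {X Y : Scheme.{u}} [IrreducibleSpace X]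
    [IrreducibleSpace Y] (qX : X ⟶ Spec (CommRingCat.of k)) (qY : Y ⟶ Spec (CommRingCat.of k)) [Smooth qX]
    [Smooth qY] (f : X ⟶ Y) (hf : f ≫ qY = qX) [Smooth f] (dX dY : ℕ) (hY : topologicalKrullDim Y = dY)
    (hX : topologicalKrullDim X = dX) : dY ≤ dX := by
  let x : X := genericPoint X
  obtain ⟨W, m, hxW, hm⟩ := Groth.L14.Quot.exists_relativeDimension f x
  obtain ⟨W', a, hxW', ha⟩ := Groth.L14.Quot.exists_relativeDimension qY (f x)
  haveI : Nonempty W'.toScheme := ⟨⟨f x, hxW'⟩⟩
  have haY : a = dY := relDim_eq qY hY W'.ι a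
  let h := W.ι ≫ f
  haveI : SmoothOfRelativeDimension m (h ∣_ W') :=
    IsZariskiLocalAtTarget.restrict (P := @SmoothOfRelativeDimension m) hm W'
  haveI : SmoothOfRelativeDimension (m + a) ((h ∣_ W') ≫ W'.ι ≫ qY) := inferInstance
  have he : (h ∣_ W') ≫ W'.ι ≫ qY = ((h ⁻¹ᵁ W').ι ≫ W.ι) ≫ qX := by
    rw [morphismRestrict_ι_assoc]
    simp only [h, Category.assoc, hf]
  haveI : SmoothOfRelativeDimension (m + a) (((h ⁻¹ᵁ W').ι ≫ W.ι) ≫ qX) := he ▸ inferInstance
  haveI : Nonempty (h ⁻¹ᵁ W').toScheme := ⟨⟨⟨x, hxW⟩, hxW'⟩⟩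
  have := relDim_eq qX hX ((h ⁻¹ᵁ W').ι ≫ W.ι) (m + a)
  omega

end Groth.L22.CotSmooth
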