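import Groth.Agent.L22.CotSmooth.Local
import Groth.Agent.L14.Quot.RelDim
import Groth.Agent.L21.Smooth.Scheme
import Groth.Agent.L22.PDual.RegVanish
import Groth.Agent.L07.SyntOverField
import Groth.Agent.L07.FieldStalk
import Groth.Agent.L21.Disc.Hurwitz

/-!
Stalks of smooth schemes over a field and the relative dimension of their morphisms.
-/

set_option autoImplicit false
set_option linter.style.haveILetI false
universe u

open CategoryTheory CategoryTheory.Limits AlgebraicGeometry TopologicalSpace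

namespace Groth.L22.CotSmooth

variable {k : Type u} [Field k] {X : Scheme.{u}}

open Groth.L07.SyntOverField (toStalk toStalk_eq)

theorem formallySmooth_toStalk (p : X ⟶ Spec (CommRingCat.of k)) [Smooth p] (x : X) :
    letI := (toStalk p x).hom.toAlgebra
    Algebra.FormallySmooth k (X.presheaf.stalk x) := by
  obtain ⟨_, ⟨W, hW, rfl⟩, hxW, -⟩ := X.isBasis_affineOpens.exists_subset_of_mem_open
    (Set.mem_univ x) isOpen_univ
  let φ : k →+* Γ(X, W) := ((Scheme.ΓSpecIso (CommRingCat.of k)).inv ≫ p.appLE ⊤ W le_top).hom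
  have hφ : φ.Smooth := RingHom.Smooth.respectsIso.2 _
    (Scheme.ΓSpecIso (CommRingCat.of k)).symm.commRingCatIsoToRingEquiv
    (HasRingHomProperty.appLE @Smooth p inferInstance ⟨⊤, isAffineOpen_top _⟩ ⟨W, hW⟩ le_top)
  letI := φ.toAlgebra
  letI := (toStalk p x).hom.toAlgebra
  haveI : Algebra.Smooth k Γ(X, W) := hφ
  letI := X.presheaf.algebra_section_stalk ⟨x, hxW⟩
  haveI := hW.isLocalization_stalk ⟨x, hxW⟩
  haveI : IsScalarTower k Γ(X, W) (X.presheaf.stalk x) := IsScalarTower.of_algebraMap_eq' <| by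
    show (toStalk p x).hom = (X.presheaf.germ W x hxW).hom.comp φ
    rw [toStalk_eq p x W hxW]
    rfl
  haveI : Algebra.FormallyEtale Γ(X, W) (X.presheaf.stalk x) :=
    Algebra.FormallyEtale.of_isLocalization (hW.primeIdealOf ⟨x, hxW⟩).asIdeal.primeCompl
  exact Algebra.FormallySmooth.comp k Γ(X, W) _

/-- The relative dimension of an open piece of an irreducible smooth scheme is its dimension. -/
theorem relDim_eq [IsAlgClosed k] [IrreducibleSpace X] (q : X ⟶ Spec (CommRingCat.of k)) [Smooth q]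
    {d : ℕ} (hd : topologicalKrullDim X = d) {P : Scheme.{u}} (j : P ⟶ X) [IsOpenImmersion j] [Nonempty P]
    (e : ℕ) [SmoothOfRelativeDimension e (j ≫ q)] : e = d := by
  letI : X.Over (Spec (CommRingCat.of k)) := ⟨q⟩
  haveI : LocallyOfFiniteType (X ↘ Spec (CommRingCat.of k)) := inferInstanceAs (LocallyOfFiniteType q)
  haveI : JacobsonSpace X := LocallyOfFiniteType.jacobsonSpace q
  obtain ⟨x₀, hx₀, hc⟩ := nonempty_inter_closedPoints (Set.range_nonempty j)
    j.isOpenEmbedding.isOpen_range.isLocallyClosed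
  obtain ⟨z, rfl⟩ := hx₀
  have hz : IsClosed ({z} : Set P) := by
    have e : ({z} : Set P) = j ⁻¹' {j z} := by
      ext w
      exact ⟨fun hw => congrArg j hw, fun hw => j.isOpenEmbedding.injective hw⟩
    rw [e]
    exact hc.preimage j.continuous
  have h1 := Groth.L14.Quot.finrank_cotangent_of_smoothOfRelativeDimension (j ≫ q) e z hz
  haveI : Smooth (j ≫ q) := SmoothOfRelativeDimension.smooth e _
  haveI : IsLocallyNoetherian P := LocallyOfFiniteType.isLocallyNoetherian (j ≫ q)
  have h2 := (IsRegularLocalRing.iff_finrank_cotangentSpace _).mp (Groth.L21.Smooth.regular_stalk (j ≫ q) z)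
  rw [h1, ← ringKrullDim_eq_of_ringEquiv (asIso (j.stalkMap z)).commRingCatIsoToRingEquiv,
    Groth.L22.PDual.dim_stalk_closed_point k hd hc] at h2
  exact_mod_cast h2

theorem smoothOfRelativeDimension_of_smooth [IsAlgClosed k] {Y : Scheme.{u}} [IrreducibleSpace X]
    [IrreducibleSpace Y] (qX : X ⟶ Spec (CommRingCat.of k)) (qY : Y ⟶ Spec (CommRingCat.of k)) [Smooth qX]
    [Smooth qY] (f : X ⟶ Y) (hf : f ≫ qY = qX) [Smooth f] (n dY : ℕ) (hY : topologicalKrullDim Y = dY)
    (hX : topologicalKrullDim X = ((dY + n : ℕ) : WithBot ℕ∞)) : SmoothOfRelativeDimension n f := by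
  choose W m hxW hm using fun x : X => Groth.L14.Quot.exists_relativeDimension f x
  refine IsZariskiLocalAtSource.of_iSup_eq_top (P := @SmoothOfRelativeDimension n) W
    (eq_top_iff.2 fun x _ => Opens.mem_iSup.2 ⟨x, hxW x⟩) fun x => ?_
  obtain ⟨W', a, hxW', ha⟩ := Groth.L14.Quot.exists_relativeDimension qY (f x)
  haveI := hm x
  haveI : Nonempty W'.toScheme := ⟨⟨f x, hxW'⟩⟩
  have haY : a = dY := relDim_eq qY hY W'.ι a
  let h := (W x).ι ≫ f
  let g := h ∣_ W'
  haveI : SmoothOfRelativeDimension (m x) g :=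
    IsZariskiLocalAtTarget.restrict (P := @SmoothOfRelativeDimension (m x)) (hm x) W'
  haveI : SmoothOfRelativeDimension (m x + a) (g ≫ W'.ι ≫ qY) := inferInstance
  have he : g ≫ W'.ι ≫ qY = ((h ⁻¹ᵁ W').ι ≫ (W x).ι) ≫ qX := by
    rw [morphismRestrict_ι_assoc]
    simp only [h, Category.assoc, hf]
  haveI : SmoothOfRelativeDimension (m x + a) (((h ⁻¹ᵁ W').ι ≫ (W x).ι) ≫ qX) := he ▸ inferInstance
  haveI : Nonempty (h ⁻¹ᵁ W').toScheme := ⟨⟨⟨x, hxW x⟩, hxW'⟩⟩
  have := relDim_eq qX hX ((h ⁻¹ᵁ W').ι ≫ (W x).ι) (m x + a)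
  obtain rfl : n = m x := by omega
  exact hm x

end Groth.L22.CotSmooth
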