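import Groth.Agent.L05.Kaehler.Tower
import Mathlib.RingTheory.LocalRing.Module
import Mathlib.RingTheory.Smooth.Kaehler
import Mathlib.RingTheory.Ideal.Cotangent
import Mathlib.RingTheory.EssentialFiniteness

/-!
For smooth local algebras with residue field the base field, smoothness is injectivity on cotangent spaces.
-/

set_option autoImplicit false
set_option linter.style.haveILetI false
universe u

open IsLocalRing TensorProduct KaehlerDifferential

namespace Groth.L22.CotSmooth

theorem exists_cotangentEquiv {k R : Type u} [Field k] [CommRing R] [IsLocalRing R] [Algebra k R]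
    (h : Function.Bijective (algebraMap k (ResidueField R))) :
    ∃ ψ : CotangentSpace R ≃+ ResidueField R ⊗[R] Ω[R⁄k],
      ∀ (a : R) (ha : a ∈ maximalIdeal R), ψ ((maximalIdeal R).toCotangent ⟨a, ha⟩) = 1 ⊗ₜ D k R a := by
  let e : k ≃ₐ[k] ResidueField R := AlgEquiv.ofBijective (Algebra.ofId k _) h
  haveI : Algebra.FormallySmooth k (ResidueField R) := Algebra.FormallySmooth.of_equiv e
  haveI : Algebra.FormallyUnramified k (ResidueField R) := Algebra.FormallyUnramified.of_equiv e
  have hsurj : Function.Surjective (algebraMap R (ResidueField R)) := residue_surjective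
  let f : R →ₐ[k] ResidueField R := IsScalarTower.toAlgHom k R (ResidueField R)
  have hk : Function.Surjective f.kerSquareLift := fun y => by
    obtain ⟨x, rfl⟩ := hsurj y
    exact ⟨Ideal.Quotient.mk _ x, rfl⟩
  have hnil : IsNilpotent (RingHom.ker f.kerSquareLift.toRingHom) := by
    refine ⟨2, ?_⟩
    rw [AlgHom.ker_kerSquareLift f, Ideal.cotangentIdeal_square]
    rfl
  obtain ⟨l, hl⟩ := (retractionKerCotangentToTensorEquivSection (R := k) (P := R)
    (S := ResidueField R) hsurj).symm
    ⟨Algebra.FormallySmooth.liftOfSurjective (AlgHom.id k _) f.kerSquareLift hk hnil,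
      AlgHom.ext fun y => Algebra.FormallySmooth.liftOfSurjective_apply _ _ hk hnil y⟩
  let φ := KaehlerDifferential.kerCotangentToTensor k R (ResidueField R)
  have hinj : Function.Injective φ := Function.LeftInverse.injective (LinearMap.congr_fun hl)
  have hφ : Function.Surjective φ := fun z =>
    (KaehlerDifferential.exact_kerCotangentToTensor_mapBaseChange k R (ResidueField R) hsurj z).mp
      (Subsingleton.elim _ _)
  have hker : maximalIdeal R = RingHom.ker (algebraMap R (ResidueField R)) := IsLocalRing.ker_residue.symm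
  refine ⟨((Ideal.Cotangent.equivOfEq (maximalIdeal R) _ hker).trans
    (LinearEquiv.ofBijective φ ⟨hinj, hφ⟩)).toAddEquiv, fun a ha => ?_⟩
  exact KaehlerDifferential.kerCotangentToTensor_toCotangent k R (ResidueField R) ⟨a, hker ▸ ha⟩

theorem formallySmooth_iff {k B O : Type u} [Field k] [CommRing B] [CommRing O] [IsLocalRing B] [IsLocalRing O]
    [Algebra k B] [Algebra k O] [Algebra B O] [IsScalarTower k B O] [IsLocalHom (algebraMap B O)]
    [Algebra.EssFiniteType k B] [Algebra.EssFiniteType k O]
    [Algebra.FormallySmooth k O]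
    (hB : Function.Bijective (algebraMap k (ResidueField B)))
    (hO : Function.Bijective (algebraMap k (ResidueField O)))
    (g : CotangentSpace B → CotangentSpace O)
    (hg : ∀ (b : B) (hb : b ∈ maximalIdeal B) (hb' : algebraMap B O b ∈ maximalIdeal O),
      g ((maximalIdeal B).toCotangent ⟨b, hb⟩) = (maximalIdeal O).toCotangent ⟨algebraMap B O b, hb'⟩) :
    Algebra.FormallySmooth B O ↔ Function.Injective g := by
  haveI : Module.Finite O (O ⊗[B] Ω[B⁄k]) := Module.Finite.base_change B O _
  haveI : Module.Free O (Ω[O⁄k]) := Module.free_of_flat_of_isLocalRing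
  rw [Groth.L05.Kaehler.formallySmooth_iff_exists_retraction k B O,
    IsLocalRing.split_injective_iff_lTensor_residueField_injective]
  obtain ⟨ψB, hψB⟩ := exists_cotangentEquiv (k := k) (R := B) hB
  obtain ⟨ψO, hψO⟩ := exists_cotangentEquiv (k := k) (R := O) hO
  let ι : ResidueField B →+* ResidueField O := ResidueField.map (algebraMap B O)
  have hι : Function.Bijective ι := by
    have e : ∀ t, ι (algebraMap k (ResidueField B) t) = algebraMap k (ResidueField O) t := fun t => by
      show residue O (algebraMap B O (algebraMap k B t)) = residue O (algebraMap k O t)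
      rw [← IsScalarTower.algebraMap_apply k B O]
    refine ⟨ι.injective, fun z => ?_⟩
    obtain ⟨t, rfl⟩ := hO.2 z
    exact ⟨_, e t⟩
  let ιₗ : ResidueField B ≃ₗ[B] ResidueField O := LinearEquiv.ofBijective
    { toFun := ι
      map_add' := map_add ι
      map_smul' := fun b z => by
        obtain ⟨c, rfl⟩ := residue_surjective z
        show residue O (algebraMap B O (b * c)) = b • residue O (algebraMap B O c)
        rw [map_mul, map_mul, Algebra.smul_def]
        rfl } hι
  let u : CotangentSpace B ≃+ ResidueField O ⊗[O] (O ⊗[B] Ω[B⁄k]) :=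
    ψB.trans ((TensorProduct.congr ιₗ (LinearEquiv.refl B Ω[B⁄k])).toAddEquiv.trans
      (TensorProduct.AlgebraTensorModule.cancelBaseChange B O (ResidueField O) (ResidueField O) Ω[B⁄k]).symm.toAddEquiv)
  have key : ∀ v, (mapBaseChange k B O).lTensor (ResidueField O) (u v) = ψO (g v) := fun v => by
    obtain ⟨⟨b, hb⟩, rfl⟩ := Ideal.toCotangent_surjective _ v
    have hb' : algebraMap B O b ∈ maximalIdeal O := fun hu => hb (isUnit_of_map_unit _ b hu)
    rw [hg b hb hb', hψO]
    show (mapBaseChange k B O).lTensor (ResidueField O)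
      ((TensorProduct.AlgebraTensorModule.cancelBaseChange B O (ResidueField O) (ResidueField O) Ω[B⁄k]).symm
        (TensorProduct.congr ιₗ (LinearEquiv.refl B Ω[B⁄k]) (ψB _))) = _
    rw [hψB, TensorProduct.congr_tmul, TensorProduct.AlgebraTensorModule.cancelBaseChange_symm_tmul,
      LinearMap.lTensor_tmul, LinearEquiv.refl_apply, mapBaseChange_tmul, map_D, one_smul]
    congr 1
    exact map_one ι
  have hcomp : ⇑((mapBaseChange k B O).lTensor (ResidueField O)) ∘ ⇑u = ⇑ψO ∘ g := funext key
  rw [← EquivLike.injective_comp u, hcomp, EquivLike.comp_injective g ψO]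

end Groth.L22.CotSmooth
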